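import Cfsg.Agent.Lib.FischerOrthModels51.NodeS

/-!
# Fischer's theorem, node S: the exceptional isomorphisms

Owner: helper51.
-/

set_option autoImplicit false

namespace Cfsg.Agent.Lib.FischerThm

universe u

/-- `U₄(2)` and `O₆⁻(2)` with their transvections are projective reflection groups in dimension five -/
theorem nodeS : NodeS.{u} := FischerOrthModels51.nodeS

end Cfsg.Agent.Lib.FischerThm
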